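import Cfsg.Agent.Spor.Fi3510.L.D0

set_option autoImplicit false
set_option maxRecDepth 100000000
set_option Elab.async false

namespace Cfsg.Agent.Spor.Fi3510.L

theorem rel3 : U.rel 12 [1, 22, 1, 21] 0 12 = true := by decide +kernel

theorem rel4 : U.rel 12 [3, 1, 5, 3, 3, 5, 1, 3] 0 12 = true := by decide +kernel

theorem rel5 : U.rel 12 [3, 5, 1, 3, 1, 3, 1, 5, 3, 1, 3, 5, 1, 3, 1, 3, 1, 5, 3, 1] 0 12 = true := by decide +kernel

theorem rel6 : U.rel 12 [3, 3] 0 12 = true := by decide +kernel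

theorem rel7 : U.rel 12 [3, 1, 3, 1, 3, 1, 3, 1, 3, 1, 3, 1] 0 12 = true := by decide +kernel

theorem uok11 : Net.okb 12 un11 = true := by decide +kernel

theorem rel8 : U.rel 12 [23, 11, 9, 7, 11, 7, 15, 1, 11, 17, 5, 9, 1, 7, 1] 0 12 = true := by decide +kernel

theorem uok12 : Net.okb 12 un12 = true := by decide +kernel

theorem rel9 : U.rel 12 [25, 7, 11, 3, 15, 1, 11, 5, 11, 5, 7, 17, 11, 5, 9, 17, 9, 1, 7, 9, 5, 11, 9, 1, 7, 3, 5, 13, 15, 13, 1, 17, 13, 7, 11, 1, 5, 3, 1, 13, 11, 9, 17, 15, 7, 5, 3] 0 12 = true := by decide +kernel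

theorem gr11 : sub M10 (U.growI W1 [1, 2, 3, 4, 5, 6, 7, 8, 3, 2, 1, 0, 1, 2, 3, 4, 5, 7, 3, 2, 1, 0, 4, 5, 6, 7, 8, 3, 2, 1, 0, 4, 5, 6, 7, 8, 3, 2, 1, 7, 3, 2] (Nat.shiftLeft 1 0)) = true := by decide +kernel

theorem cl13 : band (U.closedW W1 M10) (sub (Nat.shiftLeft 1 0) M10) = true := by decide +kernel

theorem sz14 : sizeOk 12 M10 3510 = true := by decide +kernel

theorem fx17 : U.closedW W16 (Nat.shiftLeft 1 0) = true := by decide +kernel

theorem uok13 : Net.okb 12 un13 = true := by decide +kernel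

theorem rel18 : U.rel 12 [27, 23, 25, 23, 25, 25, 23, 25, 23, 23, 25, 23, 25, 25] 0 12 = true := by decide +kernel

theorem uok14 : Net.okb 12 un14 = true := by decide +kernel

theorem rel19 : U.rel 12 [29, 23, 25, 23, 23, 23, 23, 23, 25, 25, 23, 23, 25, 23, 25, 25, 23, 23, 23, 23, 23, 23, 25, 25, 23, 23] 0 12 = true := by decide +kernel

theorem gr21 : sub M20 (U.growI W16 [0, 1, 1, 0, 0, 1, 1, 0, 0, 1, 1, 0, 0, 1, 1, 0, 0, 1, 1, 0, 0, 1, 1, 0] (Nat.shiftLeft 1 1)) = true := by decide +kernel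

theorem cl23 : band (U.closedW W16 M20) (sub (Nat.shiftLeft 1 1) M20) = true := by decide +kernel

theorem sz24 : sizeOk 12 M20 2816 = true := by decide +kernel

theorem fx27 : U.closedW W26 (Nat.shiftLeft 1 1) = true := by decide +kernel

theorem uok15 : Net.okb 12 un15 = true := by decide +kernel

theorem rel28 : U.rel 12 [31, 27, 29, 29, 29, 29, 27, 29, 29, 29, 29, 29, 27, 29, 29, 29, 27, 27, 27, 29, 29, 29, 29, 29, 29, 27, 29, 29, 27, 27, 29, 27, 27, 29, 27, 27, 29, 29] 0 12 = true := by decide +kernel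

theorem uok16 : Net.okb 12 un16 = true := by decide +kernel

theorem rel29 : U.rel 12 [33, 27, 27, 27, 27, 29, 29, 27, 27, 29, 29, 27, 29, 29, 29, 27] 0 12 = true := by decide +kernel

theorem uok17 : Net.okb 12 un17 = true := by decide +kernel

theorem rel30 : U.rel 12 [35, 29, 27, 29, 29, 29, 27, 29, 29, 29, 27, 27, 27, 29, 27, 29, 27, 27, 27, 27, 29, 29, 29, 27, 29, 27, 27, 27, 27, 29, 27, 29, 27, 29, 27, 29] 0 12 = true := by decide +kernel

theorem gr32 : sub M31 (U.growI W26 [0, 1, 1, 0, 0, 1, 1, 0, 0, 1, 1, 0, 0, 1, 1, 0, 0, 1, 1, 0, 0, 1] (Nat.shiftLeft 1 192)) = true := by decide +kernel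

theorem cl34 : band (U.closedW W26 M31) (sub (Nat.shiftLeft 1 192) M31) = true := by decide +kernel

theorem sz35 : sizeOk 12 M31 1680 = true := by decide +kernel

theorem fx38 : U.closedW W37 (Nat.shiftLeft 1 192) = true := by decide +kernel

theorem uok18 : Net.okb 12 un18 = true := by decide +kernel

theorem rel39 : U.rel 12 [37, 35, 31, 35, 31, 35, 33, 33, 35, 35, 35, 35, 35, 31, 31, 35, 31, 35, 35, 35] 0 12 = true := by decide +kernel

theorem uok19 : Net.okb 12 un19 = true := by decide +kernel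

theorem rel40 : U.rel 12 [39, 35, 31, 31, 35, 33, 35, 31, 31, 31, 31, 35, 35] 0 12 = true := by decide +kernel

theorem uok20 : Net.okb 12 un20 = true := by decide +kernel

theorem rel41 : U.rel 12 [41, 31, 33, 35, 33, 31, 31, 31, 35, 33, 31, 33, 31, 31, 35, 35, 33, 33, 35, 33, 33] 0 12 = true := by decide +kernel

theorem gr43 : sub M42 (U.growI W37 [0, 1, 2, 2, 1, 0, 0, 1, 2, 2, 1, 0, 0] (Nat.shiftLeft 1 54)) = true := by decide +kernel

theorem cl45 : band (U.closedW W37 M42) (sub (Nat.shiftLeft 1 54) M42) = true := by decide +kernel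

theorem sz46 : sizeOk 12 M42 243 = true := by decide +kernel

theorem fx49 : U.closedW W48 (Nat.shiftLeft 1 54) = true := by decide +kernel

theorem gr51 : sub M50 (U.growI W48 [0, 1, 2, 2, 1, 0, 0] (Nat.shiftLeft 1 8)) = true := by decide +kernel

theorem cl53 : band (U.closedW W48 M50) (sub (Nat.shiftLeft 1 8) M50) = true := by decide +kernel

theorem sz54 : sizeOk 12 M50 16 = true := by decide +kernel

end Cfsg.Agent.Spor.Fi3510.L
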