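import Cfsg.Agent.Spor.Prim
import Cfsg.Agent.Spor.Fi3510.Main
import Cfsg.Agent.Spor.Fi3510.L.C0
import Cfsg.Agent.Spor.TT
import Cfsg.Agent.Spor.Fi3510.S.Main

set_option autoImplicit false
set_option maxRecDepth 100000000
set_option Elab.async false

namespace Cfsg.Agent.Spor.Fi3510.L

theorem hU : U.Ok 12 := U.ok_of 12 (show AllP (fun n => Net.okb 12 n = true) [n0, n1, n2, n3, n4, n5, n6, n7, n8, n9, n10, un11, un12, un13, un14, un15, un16, un17, un18, un19, un20] from AllP.cons ok0 (AllP.cons ok1 (AllP.cons ok2 (AllP.cons ok3 (AllP.cons ok4 (AllP.cons ok5 (AllP.cons ok6 (AllP.cons ok7 (AllP.cons ok8 (AllP.cons ok9 (AllP.cons ok10 (AllP.cons uok11 (AllP.cons uok12 (AllP.cons uok13 (AllP.cons uok14 (AllP.cons uok15 (AllP.cons uok16 (AllP.cons uok17 (AllP.cons uok18 (AllP.cons uok19 (AllP.cons uok20 (AllP.nil))))))))))))))))))))))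

theorem hfP : ∀ j < 9, U.fP [1, 3, 5, 7, 9, 11, 13, 15, 17] j = fP j := by
  intro j hj
  interval_cases j <;> rfl
theorem eG : gsub 9 fP = U.lsub W1 := (gsub_congr hfP).symm.trans (lsub_eq_gsub U [1, 3, 5, 7, 9, 11, 13, 15, 17])
theorem upz1 : ev (atm 9 fP) [0] = U.τ 1 := pz1
theorem upz3 : ev (atm 9 fP) [2] = U.τ 3 := pz2
theorem upz5 : ev (atm 9 fP) [4] = U.τ 5 := pz3
theorem upz7 : ev (atm 9 fP) [6] = U.τ 7 := pz4
theorem upz9 : ev (atm 9 fP) [8] = U.τ 9 := pz5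
theorem upz11 : ev (atm 9 fP) [10] = U.τ 11 := pz6
theorem upz13 : ev (atm 9 fP) [12] = U.τ 13 := pz7
theorem upz15 : ev (atm 9 fP) [14] = U.τ 15 := pz8
theorem upz17 : ev (atm 9 fP) [16] = U.τ 17 := pz9
theorem upz19 : ev (atm 9 fP) [0, 2, 4, 6, 8, 14] = U.τ 19 := pz10
theorem upz21 : ev (atm 9 fP) [0, 2, 4, 6, 8, 14, 0, 2, 4, 6, 8, 14, 0, 2, 4, 6, 8, 14, 0, 2, 4, 6, 8, 14, 0, 2, 4, 6, 8, 14] = U.τ 21 := pz12
theorem eH : wsub 9 fP BW = U.lsub W2 :=
  lsub_eq_of_all₂ (show List.Forall₂ _ [[0], [4], [6], [8], [10], [12], [14], [16], [0, 2, 4, 6, 8, 14, 0, 2, 4, 6, 8, 14, 0, 2, 4, 6, 8, 14, 0, 2, 4, 6, 8, 14, 0, 2, 4, 6, 8, 14]] [[1], [5], [7], [9], [11], [13], [15], [17], [21]] from List.Forall₂.cons (upz1.trans (one_mul _).symm) (List.Forall₂.cons (upz5.trans (one_mul _).symm) (List.Forall₂.cons (upz7.trans (one_mul _).symm) (List.Forall₂.cons (upz9.trans (one_mul _).symm) (List.Forall₂.cons (upz11.trans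 (one_mul _).symm) (List.Forall₂.cons (upz13.trans (one_mul _).symm) (List.Forall₂.cons (upz15.trans (one_mul _).symm) (List.Forall₂.cons (upz17.trans (one_mul _).symm) (List.Forall₂.cons (upz21.trans (one_mul _).symm) (List.Forall₂.nil))))))))))
theorem vpz1 : PZ U (atm 9 fP) EXU 1 := pz1
theorem vpz2 : PZ U (atm 9 fP) EXU 2 := PZ.of_inv hiv vpz1 (by decide +kernel)
theorem vpz3 : PZ U (atm 9 fP) EXU 3 := pz2
theorem vpz4 : PZ U (atm 9 fP) EXU 4 := PZ.of_inv hiv vpz3 (by decide +kernel)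
theorem vpz5 : PZ U (atm 9 fP) EXU 5 := pz3
theorem vpz6 : PZ U (atm 9 fP) EXU 6 := PZ.of_inv hiv vpz5 (by decide +kernel)
theorem vpz7 : PZ U (atm 9 fP) EXU 7 := pz4
theorem vpz8 : PZ U (atm 9 fP) EXU 8 := PZ.of_inv hiv vpz7 (by decide +kernel)
theorem vpz9 : PZ U (atm 9 fP) EXU 9 := pz5
theorem vpz10 : PZ U (atm 9 fP) EXU 10 := PZ.of_inv hiv vpz9 (by decide +kernel)
theorem vpz11 : PZ U (atm 9 fP) EXU 11 := pz6
theorem vpz12 : PZ U (atm 9 fP) EXU 12 := PZ.of_inv hiv vpz11 (by decide +kernel)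
theorem vpz13 : PZ U (atm 9 fP) EXU 13 := pz7
theorem vpz14 : PZ U (atm 9 fP) EXU 14 := PZ.of_inv hiv vpz13 (by decide +kernel)
theorem vpz15 : PZ U (atm 9 fP) EXU 15 := pz8
theorem vpz16 : PZ U (atm 9 fP) EXU 16 := PZ.of_inv hiv vpz15 (by decide +kernel)
theorem vpz17 : PZ U (atm 9 fP) EXU 17 := pz9
theorem vpz18 : PZ U (atm 9 fP) EXU 18 := PZ.of_inv hiv vpz17 (by decide +kernel)
theorem vpz19 : PZ U (atm 9 fP) EXU 19 := pz10
theorem vpz20 : PZ U (atm 9 fP) EXU 20 := PZ.of_inv hiv vpz19 (by decide +kernel)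
theorem vpz21 : PZ U (atm 9 fP) EXU 21 := pz12
theorem vpz22 : PZ U (atm 9 fP) EXU 22 := PZ.of_inv hiv vpz21 (by decide +kernel)
theorem hPZU : AllP (PZ U (atm 9 fP) EXU) LU :=
  show AllP (PZ U (atm 9 fP) EXU) [1, 2, 3, 4, 5, 6, 7, 8, 9, 10, 11, 12, 13, 14, 15, 16, 17, 18, 19, 20, 21, 22] from AllP.cons vpz1 (AllP.cons vpz2 (AllP.cons vpz3 (AllP.cons vpz4 (AllP.cons vpz5 (AllP.cons vpz6 (AllP.cons vpz7 (AllP.cons vpz8 (AllP.cons vpz9 (AllP.cons vpz10 (AllP.cons vpz11 (AllP.cons vpz12 (AllP.cons vpz13 (AllP.cons vpz14 (AllP.cons vpz15 (AllP.cons vpz16 (AllP.cons vpz17 (AllP.cons vpz18 (AllP.cons vpz19 (AllP.cons vpz20 (AllP.cons vpz21 (AllP.cons vpz22 (AllP.nil))))))))))))))))))))))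
theorem hXN : ∀ l ∈ XN, ev (atm 9 fP) l = 1 :=
  relAll_sound hiv (W := [[1, 22, 1, 21]]) (rules := [⟨[1, 22, 1, 21], [], 0, true⟩]) hPZU (AllP.cons (hU.one rel3) (AllP.nil)) (by decide +kernel)
theorem htt : AllP (fun x : SubO => TTOk (U.τ 1) (evA S.U.τ x.1)) S.X :=
  show AllP (fun w : List ℕ => TTOk (U.τ 1) (evA U.τ w)) [[3, 1, 5, 3], [3]] from AllP.cons (ttOk2 (w := [3, 1, 5, 3]) (iw := [3, 5, 1, 3]) (d := [1]) (hU.one rel4) (hU.one rel5)) (AllP.cons (ttOk3 (w := [3]) (iw := [3]) (d := [1]) (hU.one rel6) (hU.one rel7)) (AllP.nil))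
theorem reach12 : Reach (U.lsub W1) 0 M10 := (Reach.grow hU (Reach.base _ 0) gr11)
theorem orb15 : (orbS (U.lsub W1) 0).ncard = 3510 := reach12.ncard hU cl13 sz14
theorem orb15e : orbS (U.lsub W1) 0 = {c | Nat.testBit M10 c = true} := reach12.orb hU cl13
theorem reach22 : Reach (U.lsub W16) 1 M20 := (Reach.grow hU (Reach.base _ 1) gr21)
theorem orb25 : (orbS (U.lsub W16) 1).ncard = 2816 := reach22.ncard hU cl23 sz24
theorem orb25e : orbS (U.lsub W16) 1 = {c | Nat.testBit M20 c = true} := reach22.orb hU cl23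
theorem reach33 : Reach (U.lsub W26) 192 M31 := (Reach.grow hU (Reach.base _ 192) gr32)
theorem orb36 : (orbS (U.lsub W26) 192).ncard = 1680 := reach33.ncard hU cl34 sz35
theorem orb36e : orbS (U.lsub W26) 192 = {c | Nat.testBit M31 c = true} := reach33.orb hU cl34
theorem reach44 : Reach (U.lsub W37) 54 M42 := (Reach.grow hU (Reach.base _ 54) gr43)
theorem orb47 : (orbS (U.lsub W37) 54).ncard = 243 := reach44.ncard hU cl45 sz46
theorem orb47e : orbS (U.lsub W37) 54 = {c | Nat.testBit M42 c = true} := reach44.orb hU cl45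
theorem reach52 : Reach (U.lsub W48) 8 M50 := (Reach.grow hU (Reach.base _ 8) gr51)
theorem orb55 : (orbS (U.lsub W48) 8).ncard = 16 := reach52.ncard hU cl53 sz54
theorem orb55e : orbS (U.lsub W48) 8 = {c | Nat.testBit M50 c = true} := reach52.orb hU cl53
theorem lb56 : 16 ∣ Nat.card (U.lsub W48) := dvd_card_orb orb55
theorem lb57 : 3888 ∣ Nat.card (U.lsub W37) :=
  dvd_card_step (s := 243) (M := 16) (B := U.lsub W48) (Tab.lsub_le_all (AllP.cons (mem_of_rel (hU.one rel39) (U.mem_letters (by decide))) (AllP.cons (mem_of_rel (hU.one rel40) (U.mem_letters (by decide))) (AllP.cons (mem_of_rel (hU.one rel41) (U.mem_letters (by decide))) (AllP.nil))))) (hU.fixes fx49) orb47 lb56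
theorem lb58 : 6531840 ∣ Nat.card (U.lsub W26) :=
  dvd_card_step (s := 1680) (M := 3888) (B := U.lsub W37) (Tab.lsub_le_all (AllP.cons (mem_of_rel (hU.one rel28) (U.mem_letters (by decide))) (AllP.cons (mem_of_rel (hU.one rel29) (U.mem_letters (by decide))) (AllP.cons (mem_of_rel (hU.one rel30) (U.mem_letters (by decide))) (AllP.nil))))) (hU.fixes fx38) orb36 lb57
theorem lb59 : 18393661440 ∣ Nat.card (U.lsub W16) :=
  dvd_card_step (s := 2816) (M := 6531840) (B := U.lsub W26) (Tab.lsub_le_all (AllP.cons (mem_of_rel (hU.one rel18) (U.mem_letters (by decide))) (AllP.cons (mem_of_rel (hU.one rel19) (U.mem_letters (by decide))) (AllP.nil)))) (hU.fixes fx27) orb25 lb58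
theorem lb : 64561751654400 ∣ Nat.card (U.lsub W1) :=
  dvd_card_step (s := 3510) (M := 18393661440) (B := U.lsub W16) (Tab.lsub_le_all (AllP.cons (mem_of_rel (hU.one rel8) (U.mem_letters (by decide))) (AllP.cons (mem_of_rel (hU.one rel9) (U.mem_letters (by decide))) (AllP.nil)))) (hU.fixes fx17) orb15 lb59

end Cfsg.Agent.Spor.Fi3510.L
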